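import Mathlib

/-!
Square matrices over the field with two elements as trees of coded columns.
-/

set_option autoImplicit false

namespace CfsgLib.Fi22E6

/-- a matrix as a tree of columns, split by the index -/
inductive BT where
  | leaf (v : ℕ)
  | node (s : ℕ) (a b : BT)

/-- the zero tree -/
def zeroT : ℕ → BT
  | 0 => .leaf 0
  | d + 1 => .node (2 ^ d) (zeroT d) (zeroT d)

/-- image of a coded vector -/
noncomputable def apT (t : BT) : ℕ → ℕ :=
  BT.rec (motive := fun _ => ℕ → ℕ) (fun c v => bif Nat.testBit v 0 then c else 0)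
    (fun s _ _ fa fb v => bif Nat.beq v 0 then 0 else
      Nat.xor (fa (Nat.land v (Nat.sub (Nat.pow 2 s) 1))) (fb (Nat.shiftRight v s))) t

/-- use a number after evaluating it -/
noncomputable def strictN {α : Type} (x : ℕ) (f : ℕ → α) : α :=
  Nat.rec (motive := fun _ => α) (f 0) (fun k _ => f (Nat.succ k)) x

theorem strictN_eq {α : Type} (x : ℕ) (f : ℕ → α) : strictN x f = f x := by cases x <;> rfl

/-- a full tree -/
noncomputable def build : ℕ → (ℕ → ℕ) → BT
  | 0, f => .leaf (f 0)
  | d + 1, f => .node (2 ^ d) (build d f) (build d fun i => f (2 ^ d + i))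

/-- a full tree, evaluated -/
noncomputable def buildK {α : Type} : ℕ → (ℕ → ℕ) → (BT → α) → α
  | 0, f, k => strictN (f 0) fun v => k (.leaf v)
  | d + 1, f, k => buildK d f fun a => buildK d (fun i => f (2 ^ d + i)) fun b => k (.node (2 ^ d) a b)

theorem buildK_eq {α : Type} : ∀ (d : ℕ) (f : ℕ → ℕ) (k : BT → α), buildK d f k = k (build d f)
  | 0, f, k => by rw [buildK, strictN_eq, build]
  | d + 1, f, k => by rw [buildK, buildK_eq d, buildK_eq d, build]

theorem apT_leaf (c v : ℕ) : apT (.leaf c) v = bif v.testBit 0 then c else 0 := rfl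

theorem apT_node (s : ℕ) (a b : BT) (v : ℕ) :
    apT (.node s a b) v = apT a (v % 2 ^ s) ^^^ apT b (v >>> s) ∨ (v = 0 ∧ apT (.node s a b) v = 0) := by
  rcases eq_or_ne v 0 with rfl | hv
  · exact Or.inr ⟨rfl, rfl⟩
  · refine Or.inl ?_
    show (bif Nat.beq v 0 then 0 else _) = _
    rw [show Nat.beq v 0 = false by
      cases h : Nat.beq v 0
      · rfl
      · exact absurd (Nat.eq_of_beq_eq_true h) hv, cond_false]
    show apT a (v &&& (2 ^ s - 1)) ^^^ apT b (v >>> s) = _
    rw [Nat.and_two_pow_sub_one_eq_mod]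

theorem apT_zero : ∀ t : BT, apT t 0 = 0
  | .leaf c => by simp [apT_leaf]
  | .node s a b => rfl

theorem apT_split (s : ℕ) (a b : BT) (v : ℕ) :
    apT (.node s a b) v = apT a (v % 2 ^ s) ^^^ apT b (v >>> s) := by
  rcases apT_node s a b v with h | ⟨rfl, h⟩
  · exact h
  · rw [h, Nat.zero_mod, Nat.zero_shiftRight, apT_zero, apT_zero, Nat.xor_self]

theorem apT_xor : ∀ (t : BT) (v w : ℕ), apT t (v ^^^ w) = apT t v ^^^ apT t w
  | .leaf c, v, w => by
    simp only [apT_leaf, Nat.testBit_xor]
    cases v.testBit 0 <;> cases w.testBit 0 <;> simp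
  | .node s a b, v, w => by
    rw [apT_split, apT_split, apT_split, Nat.xor_mod_two_pow, Nat.shiftRight_xor_distrib,
      apT_xor a, apT_xor b]
    rw [Nat.xor_assoc, Nat.xor_assoc]
    congr 1
    rw [← Nat.xor_assoc, Nat.xor_comm (apT a _), Nat.xor_assoc]

theorem apT_build : ∀ (d : ℕ) (f : ℕ → ℕ) {j : ℕ}, j < 2 ^ d → apT (build d f) (2 ^ j) = f j
  | 0, f, j, hj => by
    obtain rfl : j = 0 := by simpa using hj
    rw [build, apT_leaf]
    simp
  | d + 1, f, j, hj => by
    rw [build, apT_split]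
    rcases lt_or_ge j (2 ^ d) with h | h
    · rw [Nat.mod_eq_of_lt (Nat.pow_lt_pow_right (by norm_num) h), apT_build d f h,
        Nat.shiftRight_eq_div_pow, Nat.div_eq_of_lt (Nat.pow_lt_pow_right (by norm_num) h), apT_zero,
        Nat.xor_zero]
    · obtain ⟨i, rfl⟩ := Nat.exists_eq_add_of_le h
      have hi : i < 2 ^ d := by rw [pow_succ] at hj; omega
      rw [pow_add, Nat.mul_mod_right, apT_zero, Nat.shiftRight_eq_div_pow,
        Nat.mul_div_cancel_left _ (by positivity), apT_build d (fun i => f (2 ^ d + i)) hi, Nat.zero_xor]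

/-- a bit as an element of the field -/
def bitK (R : Type*) [Zero R] [One R] (v i : ℕ) : R := bif v.testBit i then 1 else 0

theorem bitK_xor {R : Type*} [Ring R] [CharP R 2] (v w i : ℕ) :
    bitK R (v ^^^ w) i = bitK R v i + bitK R w i := by
  simp only [bitK, Nat.testBit_xor]
  cases v.testBit i <;> cases w.testBit i <;> simp [CharTwo.add_self_eq_zero]

/-- the matrix of a tree -/
noncomputable def toM (R : Type*) [Zero R] [One R] (t : BT) : Matrix (Fin 78) (Fin 78) R :=
  fun i j => bitK R (apT t (2 ^ j.val)) i.val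

theorem apT_sum {R : Type*} [Ring R] [CharP R 2] (t : BT) (i : ℕ) : ∀ (n v : ℕ), v < 2 ^ n →
    bitK R (apT t v) i = ∑ k ∈ Finset.range n, bitK R v k * bitK R (apT t (2 ^ k)) i
  | 0, v, hv => by
    obtain rfl : v = 0 := by simpa using hv
    simp [apT_zero, bitK]
  | n + 1, v, hv => by
    have hsplit : v = (v % 2 ^ n) ^^^ (bif v.testBit n then 2 ^ n else 0) := by
      refine Nat.eq_of_testBit_eq fun k => ?_
      rw [Nat.testBit_xor, Nat.testBit_mod_two_pow]
      rcases lt_trichotomy k n with h | rfl | h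
      · cases v.testBit n <;> simp [h, h.ne', Nat.testBit_two_pow]
      · cases hb : v.testBit k <;> simp [Nat.testBit_two_pow_self]
      · have h0 : v.testBit k = false :=
          Nat.testBit_lt_two_pow (hv.trans_le (Nat.pow_le_pow_right (by norm_num) h))
        cases v.testBit n <;> simp [h0, h.not_gt, h.ne, Nat.testBit_two_pow]
    have hlow : ∀ k < n, bitK R (v % 2 ^ n) k = bitK R v k := fun k hk => by
      simp [bitK, Nat.testBit_mod_two_pow, hk]
    conv_lhs => rw [hsplit, apT_xor, bitK_xor, apT_sum t i n _ (Nat.mod_lt _ (by positivity))]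
    rw [Finset.sum_range_succ]
    refine congrArg₂ (· + ·) (Finset.sum_congr rfl fun k hk => by rw [hlow k (Finset.mem_range.1 hk)]) ?_
    cases hb : v.testBit n <;> simp [bitK, hb, apT_zero]

/-- a product -/
noncomputable def mulT (A B : BT) : BT := build 7 fun j => apT A (apT B (2 ^ j))

/-- a product, evaluated -/
noncomputable def mulK (A B : BT) (k : BT → Bool) : Bool :=
  buildK 7 (fun j => apT A (apT B (Nat.pow 2 j))) k

theorem mulK_eq (A B : BT) (k : BT → Bool) : mulK A B k = k (mulT A B) := buildK_eq _ _ _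

/-- columns inside the first 78 positions -/
noncomputable def shortT (A : BT) : Bool :=
  Nat.rec (motive := fun _ => Bool) true
    (fun j r => Nat.blt (apT A (Nat.pow 2 j)) (Nat.pow 2 78) && r) 78

theorem toM_mul {R : Type*} [CommRing R] [CharP R 2] (A : BT) {B : BT}
    (hB : ∀ j < 78, apT B (2 ^ j) < 2 ^ 78) : toM R (mulT A B) = toM R A * toM R B := by
  ext i j
  rw [Matrix.mul_apply]
  show bitK R (apT (mulT A B) (2 ^ j.val)) i.val = _
  rw [mulT, apT_build 7 _ (j.isLt.trans (by norm_num)), apT_sum A i.val 78 _ (hB _ j.isLt),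
    Finset.sum_range]
  exact Finset.sum_congr rfl fun k _ => mul_comm _ _

/-- the unit tree -/
noncomputable def oneT : BT := build 7 fun j => Nat.pow 2 j

theorem toM_one {R : Type*} [CommRing R] : toM R oneT = 1 := by
  ext i j
  show bitK R (apT oneT (2 ^ j.val)) i.val = _
  rw [oneT, apT_build 7 _ (j.isLt.trans (by norm_num))]
  show bitK R (2 ^ j.val) i.val = _
  rw [bitK, Nat.testBit_two_pow, Matrix.one_apply]
  rcases eq_or_ne i j with rfl | h
  · simp
  · simp [h, Fin.val_ne_of_ne h.symm]

/-- two trees with the same first 78 columns -/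
noncomputable def eqT (A B : BT) : Bool :=
  Nat.rec (motive := fun _ => Bool) true
    (fun j r => Nat.beq (apT A (Nat.pow 2 j)) (apT B (Nat.pow 2 j)) && r) 78

theorem rec_all {f : ℕ → Bool} : ∀ {n : ℕ},
    Nat.rec (motive := fun _ => Bool) true (fun j r => f j && r) n = true → ∀ j < n, f j = true
  | 0, _, _, h => absurd h (by omega)
  | n + 1, h, j, hj => by
    change (f n && _) = true at h
    rw [Bool.and_eq_true] at h
    rcases Nat.lt_succ_iff_lt_or_eq.1 hj with h' | rfl
    · exact rec_all h.2 j h'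
    · exact h.1

theorem toM_eq {R : Type*} [Zero R] [One R] {A B : BT} (h : eqT A B = true) : toM R A = toM R B := by
  ext i j
  show bitK R (apT A (2 ^ j.val)) _ = bitK R (apT B (2 ^ j.val)) _
  rw [show apT A (2 ^ j.val) = apT B (2 ^ j.val) from
    Nat.eq_of_beq_eq_true (rec_all (f := fun j => Nat.beq (apT A (Nat.pow 2 j)) (apT B (Nat.pow 2 j))) h j.val j.isLt)]

theorem shortT_spec {A : BT} (h : shortT A = true) : ∀ j < 78, apT A (2 ^ j) < 2 ^ 78 := fun j hj =>
  Nat.blt_eq.mp (rec_all (f := fun j => Nat.blt (apT A (Nat.pow 2 j)) (Nat.pow 2 78)) h j hj)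

end CfsgLib.Fi22E6
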