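import Cfsg.Agent.Lib.Fi22E6.Embed
import Cfsg.Agent.Lib.Chev.Functorial
import Cfsg.Agent.Lib.Chev.TwistEndo

/-!
The eight generators of the subgroup `Ω₇(3)` act absolutely irreducibly, and lie in the twisted group.
-/

set_option autoImplicit false
set_option maxRecDepth 100000

namespace CfsgLib.Fi22E6

open Cfsg.Lie CfsgLib.Chev CfsgLib.CosetEnum Matrix

attribute [local irreducible] apT mulT oneT tabE6

variable {K : Type*} [Field K] [CharP K 2] {ω : K} (hω : ω * ω = ω + 1)

/-- a coded vector -/
def bvec (R : Type*) [Zero R] [One R] (v : ℕ) : Fin 78 → R := fun i => bitK R v i.val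

theorem toM_mulVec (A : BT) {v : ℕ} (hv : v < 2 ^ 78) : toM K A *ᵥ bvec K v = bvec K (apT A v) := by
  funext i
  show ∑ j : Fin 78, bitK K (apT A (2 ^ j.val)) i.val * bitK K v j.val = bitK K (apT A v) i.val
  rw [apT_sum A i.val 78 v hv, Finset.sum_range]
  exact Finset.sum_congr rfl fun k _ => mul_comm _ _

theorem toM_col (A : BT) (j : Fin 78) (i : Fin 78) : toM K A i j = bvec K (apT A (2 ^ j.val)) i := rfl

theorem sumAt_spec (v : ℕ) (i : ℕ) : ∀ ws : List (List ℕ),
    bitK K (sumAt ws v) i = (ws.map fun w => bitK K (w.foldr (fun x u => apT (genT.getD x oneT) u) v) i).sum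
  | [] => by simp [sumAt, bitK]
  | w :: ws => by
    rw [List.map_cons, List.sum_cons, ← sumAt_spec v i ws]
    show bitK K (_ ^^^ _) i = _
    rw [bitK_xor]

theorem fold_lt {v : ℕ} (hv : v < 2 ^ 78) : ∀ w : List ℕ, (∀ x ∈ w, x < 9) →
    w.foldr (fun x u => apT (genT.getD x oneT) u) v < 2 ^ 78
  | [], _ => hv
  | x :: w, h => by
    have h1 := fold_lt hv w fun y hy => h y (List.mem_cons_of_mem _ hy)
    have hs : shortT (genT.getD x oneT) = true := by
      have hx := h x List.mem_cons_self
      have hg : genOK x = true := by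
        interval_cases x
        exacts [gen_ok0, gen_ok1, gen_ok2, gen_ok3, gen_ok4, gen_ok5, gen_ok6, gen_ok7, gen_ok8]
      rw [genOK, Bool.and_eq_true] at hg
      exact hg.1
    refine Nat.lt_pow_two_of_testBit _ fun i hi => ?_
    have key : bitK (ZMod 2) (apT (genT.getD x oneT) (w.foldr (fun x u => apT (genT.getD x oneT) u) v)) i = 0 := by
      rw [apT_sum _ i 78 _ h1]
      refine Finset.sum_eq_zero fun k hk => ?_
      rw [bitK, bitK, Nat.testBit_lt_two_pow
        ((shortT_spec hs k (Finset.mem_range.1 hk)).trans_le (Nat.pow_le_pow_right (by norm_num) hi))]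
      simp
    rw [bitK] at key
    show (apT _ _).testBit i = false
    cases hb : (apT (genT.getD x oneT) (w.foldr (fun x u => apT (genT.getD x oneT) u) v)).testBit i
    · rfl
    · rw [hb] at key; simp at key

include hω in
/-- what commutes with the generators is a scalar -/
theorem scalar_of_commute {z : GL chevE6.Idx K} (hz : ∀ x, 0 < x → x < 9 → Commute z (genU ω x)) :
    ∃ c : K, z.val = c • (1 : Matrix chevE6.Idx chevE6.Idx K) := by
  set Z : Matrix (Fin 78) (Fin 78) K := qMat ω * z.val * pMat ω with hZ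
  have hc : ∀ x, 0 < x → x < 9 → Z * toM K (genT.getD x oneT) = toM K (genT.getD x oneT) * Z := by
    intro x h0 h9
    have hg := (acts_gen (ω := ω) hω h9).1
    rw [Acts] at hg
    have hq : qMat ω * (genU ω x).val = toM K (genT.getD x oneT) * qMat ω := by
      calc qMat ω * (genU ω x).val = qMat ω * (genU ω x).val * (pMat ω * qMat ω) := by
            rw [pMat_qMat hω, Matrix.mul_one]
        _ = qMat ω * (pMat ω * toM K (genT.getD x oneT)) * qMat ω := by
            rw [← hg]; simp only [Matrix.mul_assoc]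
        _ = _ := by rw [← Matrix.mul_assoc (qMat ω), qMat_pMat hω, Matrix.one_mul]
    have hzc : z.val * (genU ω x).val = (genU ω x).val * z.val := congrArg Units.val (hz x h0 h9).eq
    calc Z * toM K (genT.getD x oneT) = qMat ω * (z.val * (genU ω x).val) * pMat ω := by
          rw [hZ, Matrix.mul_assoc _ (pMat ω), ← hg]; simp only [Matrix.mul_assoc]
      _ = (qMat ω * (genU ω x).val) * z.val * pMat ω := by rw [hzc]; simp only [Matrix.mul_assoc]
      _ = _ := by rw [hq, hZ]; simp only [Matrix.mul_assoc]
  have hk := ker_ok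
  simp only [kerOK, Bool.and_eq_true, Nat.blt_eq] at hk
  obtain ⟨hws, hp, -, hsE, hv, hA0, hall⟩ := hk
  have hv' : kerV < 2 ^ 78 := hv
  have hws' : ∀ w ∈ sumW, ∀ x ∈ w, 0 < x ∧ x < 9 := fun w hw x hx => by
    have := List.all_eq_true.1 (List.all_eq_true.1 hws w hw) x hx
    rwa [Bool.and_eq_true, Nat.blt_eq, Nat.blt_eq] at this
  set A := toM K sumT with hA
  have hfold : ∀ w : List ℕ, (∀ x ∈ w, 0 < x ∧ x < 9) → ∀ u, u < 2 ^ 78 →
      (w.map fun x => toM K (genT.getD x oneT)).prod *ᵥ bvec K u =
        bvec K (w.foldr (fun x u => apT (genT.getD x oneT) u) u) := by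
    intro w
    induction w with
    | nil => intro _ u _; simp
    | cons x w ih =>
      intro h u hu
      have h' := fun y hy => h y (List.mem_cons_of_mem _ hy)
      rw [List.map_cons, List.prod_cons, ← Matrix.mulVec_mulVec, ih h' u hu,
        toM_mulVec _ (fold_lt hu w fun y hy => (h' y hy).2), List.foldr_cons]
  have hbasis : ∀ j : Fin 78, bvec K (2 ^ j.val) = Pi.single j 1 := fun j => by
    funext i
    rw [bvec, bitK, Nat.testBit_two_pow, Pi.single_apply]
    rcases eq_or_ne i j with rfl | h
    · simp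
    · simp [h, Fin.val_ne_of_ne h.symm]
  have hAsum : A = (sumW.map fun w => (w.map fun x => toM K (genT.getD x oneT)).prod).sum := by
    ext i j
    have hj := allN_spec hall j.val j.isLt
    rw [Bool.and_eq_true] at hj
    rw [hA, toM_col, show apT sumT (2 ^ j.val) = sumAt sumW (2 ^ j.val) from Nat.eq_of_beq_eq_true hj.1,
      bvec, sumAt_spec, List.sum_eq_foldr, List.sum_eq_foldr]
    have hgen : ∀ ws : List (List ℕ), (∀ w ∈ ws, ∀ x ∈ w, 0 < x ∧ x < 9) →
        List.foldr (· + ·) 0 (ws.map fun w => bitK K (w.foldr (fun x u => apT (genT.getD x oneT) u) (2 ^ j.val)) i.val) =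
          (List.foldr (· + ·) (0 : Matrix (Fin 78) (Fin 78) K) (ws.map fun (w : List ℕ) => (w.map fun x => toM K (genT.getD x oneT)).prod)) i j := by
      intro ws
      induction ws with
      | nil => intro _; rfl
      | cons w ws ih =>
        intro h
        simp only [List.map_cons, List.foldr_cons, Matrix.add_apply]
        rw [ih fun w' hw' => h w' (List.mem_cons_of_mem _ hw')]
        refine congrArg (· + _) ?_
        have := congrFun (hfold w (h w List.mem_cons_self) (2 ^ j.val)
          (Nat.pow_lt_pow_right (by norm_num) j.isLt)) i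
        rw [hbasis, Matrix.mulVec_single_one, Matrix.col_apply] at this
        rw [this]
        rfl
    exact hgen sumW hws'
  have hZA : Commute Z A := by
    rw [hAsum]
    refine Commute.list_sum_right _ _ fun M hM => ?_
    obtain ⟨w, hw, rfl⟩ := List.mem_map.1 hM
    refine Commute.list_prod_right _ _ fun N hN => ?_
    obtain ⟨x, hx, rfl⟩ := List.mem_map.1 hN
    exact hc x (hws' w hw x hx).1 (hws' w hw x hx).2
  have hker : ∀ u : Fin 78 → K, A *ᵥ u = 0 → u = u ⟨kerP, hp⟩ • bvec K kerV := by
    intro u hu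
    have hEA : ∀ i j : Fin 78, (toM K sumE * A) i j =
        (if i = j then 1 else 0) + (if j = ⟨kerP, hp⟩ then bvec K kerV i else 0) := by
      intro i j
      have hj := allN_spec hall j.val j.isLt
      rw [Bool.and_eq_true] at hj
      have he : apT sumE (apT sumT (2 ^ j.val)) =
          (2 ^ j.val) ^^^ (bif Nat.beq j.val kerP then kerV else 0) := Nat.eq_of_beq_eq_true hj.2
      have hs : apT sumT (2 ^ j.val) < 2 ^ 78 := by
        rw [show apT sumT (2 ^ j.val) = sumAt sumW (2 ^ j.val) from Nat.eq_of_beq_eq_true hj.1]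
        clear hAsum hj he
        have : ∀ ws : List (List ℕ), (∀ w ∈ ws, ∀ x ∈ w, 0 < x ∧ x < 9) → sumAt ws (2 ^ j.val) < 2 ^ 78 := by
          intro ws
          induction ws with
          | nil => intro _; exact pow_pos (by norm_num) 78
          | cons w ws ih =>
            intro h
            rw [sumAt]
            exact Nat.xor_lt_two_pow (fold_lt (Nat.pow_lt_pow_right (by norm_num) j.isLt) w
              fun x hx => (h w List.mem_cons_self x hx).2) (ih fun w' hw' => h w' (List.mem_cons_of_mem _ hw'))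
        exact this sumW hws'
      have := congrFun (toM_mulVec (K := K) sumE hs) i
      rw [Matrix.mul_apply, hA]
      refine this.trans ?_
      rw [he, bvec, bitK_xor]
      refine congrArg₂ (· + ·) ?_ ?_
      · rw [bitK, Nat.testBit_two_pow]
        rcases eq_or_ne i j with rfl | h
        · simp
        · simp [h, Fin.val_ne_of_ne h.symm]
      · rcases eq_or_ne j ⟨kerP, hp⟩ with e | e
        · rw [e, if_pos rfl, Nat.beq_refl, cond_true]; rfl
        · rw [if_neg e]
          cases hb : Nat.beq j.val kerP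
          · simp [bitK]
          · exact absurd (Fin.ext (Nat.eq_of_beq_eq_true hb)) e
    have h0 : (toM K sumE * A) *ᵥ u = 0 := by rw [← Matrix.mulVec_mulVec, hu, Matrix.mulVec_zero]
    funext i
    have hi := congrFun h0 i
    simp only [Matrix.mulVec, dotProduct, hEA, add_mul, ite_mul, one_mul, zero_mul, Finset.sum_add_distrib,
      Finset.sum_ite_eq, Finset.sum_ite_eq', Finset.mem_univ, if_true, Pi.zero_apply] at hi
    rw [Pi.smul_apply, smul_eq_mul, mul_comm, CharTwo.add_eq_zero.mp hi]
  have hs := spin_ok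
  simp only [spinOK, Bool.and_eq_true] at hs
  obtain ⟨h0, hsT, hsI, hTI, hpar⟩ := hs
  rw [mulK_eq] at hTI
  have hAv : A *ᵥ bvec K kerV = 0 := by
    rw [hA, toM_mulVec _ hv', Nat.eq_of_beq_eq_true hA0]
    funext i; simp [bvec, bitK]
  set lam := (Z *ᵥ bvec K kerV) ⟨kerP, hp⟩
  have hZv : Z *ᵥ bvec K kerV = lam • bvec K kerV := by
    refine hker _ ?_
    rw [Matrix.mulVec_mulVec, ← hZA.eq, ← Matrix.mulVec_mulVec, hAv, Matrix.mulVec_zero]
  have hcol : ∀ k, k < 78 → Z *ᵥ bvec K (apT spinT (2 ^ k)) = lam • bvec K (apT spinT (2 ^ k)) := by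
    intro k
    induction k using Nat.strong_induction_on with
    | _ k ih =>
      intro hk
      rcases eq_or_ne k 0 with rfl | hk0
      · rw [show apT spinT (2 ^ 0) = kerV from Nat.eq_of_beq_eq_true h0]
        exact hZv
      · have h := allN_spec hpar k hk
        rw [Bool.or_eq_true] at h
        have h' := h.resolve_left fun e => hk0 (Nat.eq_of_beq_eq_true e)
        simp only [Bool.and_eq_true, Nat.blt_eq] at h'
        obtain ⟨hlt, hg0, hg9, he⟩ := h'
        have hk' := hlt.trans hk
        rw [show apT spinT (2 ^ k) = _ from Nat.eq_of_beq_eq_true he]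
        have hsh := shortT_spec hsT _ hk'
        rw [show Nat.pow 2 (spinPar.getD k (0, 0)).1 = 2 ^ (spinPar.getD k (0, 0)).1 from rfl,
          ← toM_mulVec _ hsh, Matrix.mulVec_mulVec, hc _ hg0 hg9, ← Matrix.mulVec_mulVec,
          ih _ hlt hk', Matrix.mulVec_smul]
  have hZT : Z * toM K spinT = lam • toM K spinT := by
    ext i j
    have := congrFun (hcol j.val j.isLt) i
    simpa [Matrix.mul_apply, Matrix.mulVec, dotProduct, bvec, toM] using this
  have hTT : toM K spinT * toM K spinI = 1 := by
    rw [← toM_mul _ (shortT_spec hsI), toM_eq hTI, toM_one]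
  refine ⟨lam, ?_⟩
  have hZ1 : Z = lam • 1 := by
    calc Z = Z * (toM K spinT * toM K spinI) := by rw [hTT, Matrix.mul_one]
      _ = _ := by rw [← Matrix.mul_assoc, hZT, Matrix.smul_mul, hTT]
  calc z.val = pMat ω * qMat ω * z.val * (pMat ω * qMat ω) := by
        rw [pMat_qMat hω, Matrix.one_mul, Matrix.mul_one]
    _ = pMat ω * Z * qMat ω := by rw [hZ]; simp only [Matrix.mul_assoc]
    _ = _ := by rw [hZ1, Matrix.mul_smul, Matrix.mul_one, Matrix.smul_mul, pMat_qMat hω]

theorem letter_rows : (letterW.all fun w =>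
    match w with
    | [(a, 1)] => [e6p2, e6m2, e6p4, e6m4].contains a
    | [(a, t), (b, u)] => [(e6p1, e6p6), (e6m1, e6m6), (e6p3, e6p5), (e6m3, e6m5)].contains (a, b) &&
        decide (t < 4) && decide (u = mul4 t t)
    | _ => false) = true := by decide +kernel

include hω in
theorem letU_mem {g : ℕ} (hg : g < 16) : letU ω g ∈ twistedE6 K 2 := by
  have hl : letterW.length = 16 := rfl
  have h := List.all_eq_true.1 letter_rows (letterW.getD g [])
    (by rw [List.getD_eq_getElem _ _ (by omega)]; exact List.getElem_mem _)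
  rw [letU]
  unfold twistedE6
  generalize letterW.getD g [] = w at h
  show (w.map fun p => X chevE6 p.1 (val ω p.2)).prod ∈ _
  split at h
  · next a =>
    have hm := certE6.prod_mem_genSubgroup (F := K) (S := e6Words K 2) (w := [(a, val ω 1)])
      (Or.inl ⟨val ω 1, by rw [val_one, one_pow], a, List.contains_iff_mem.1 h, rfl⟩)
    simpa using hm
  · next a t b u =>
    simp only [Bool.and_eq_true, decide_eq_true_eq] at h
    have hm := certE6.prod_mem_genSubgroup (F := K) (S := e6Words K 2) (w := [(a, val ω t), (b, val ω t ^ 2)])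
      (Or.inr ⟨val ω t, (a, b), List.contains_iff_mem.1 h.1.1, rfl⟩)
    rw [h.2]
    simpa [val_mul hω h.1.2 h.1.2, pow_two] using hm
  · simp at h

include hω in
theorem genU_mem {x : ℕ} (hx : x < 9) : genU ω x ∈ twistedE6 K 2 := by
  have hg : genOK x = true := by
    interval_cases x
    exacts [gen_ok0, gen_ok1, gen_ok2, gen_ok3, gen_ok4, gen_ok5, gen_ok6, gen_ok7, gen_ok8]
  rw [genOK, Bool.and_eq_true, Bool.and_eq_true] at hg
  rw [genU]
  refine list_prod_mem fun y hy => ?_
  obtain ⟨g, hg', rfl⟩ := List.mem_map.1 hy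
  exact letU_mem hω (Nat.blt_eq.mp (List.all_eq_true.1 hg.2.1 g hg'))

theorem range_le : (embHom hω).range ≤ twistedE6 K 2 := by
  rw [MonoidHom.range_eq_map, ← PresentedGroup.closure_range_of, MonoidHom.map_closure, Subgroup.closure_le]
  rintro _ ⟨_, ⟨x, rfl⟩, rfl⟩
  have h := genU_mem (K := K) (ω := ω) hω (x := Fi22Pres.letters.idxOf x) (by cases x <;> decide)
  show embHom hω (PresentedGroup.of x) ∈ _
  rwa [embHom, PresentedGroup.toGroup.of]

theorem genU_map {L : Type*} [Field L] (j : K →+* L) (x : ℕ) :
    mapGL chevE6 j (genU ω x) = genU (j ω) x := by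
  have hval : ∀ n, j (val ω n) = val (j ω) n := fun n => by
    simp only [val, bitK]
    cases n.testBit 0 <;> cases n.testBit 1 <;> simp
  simp only [genU, map_list_prod, List.map_map]
  refine congrArg List.prod (List.map_congr_left fun g _ => ?_)
  simp only [Function.comp_apply, letU, unitW, map_list_prod, List.map_map]
  refine congrArg List.prod (List.map_congr_left fun p _ => ?_)
  simp only [Function.comp_apply, certE6.X_map, hval]

end CfsgLib.Fi22E6
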