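import Cfsg.Agent.Lib.Fi22E6.CheckDefs

/-!
The relators of the diagram.
-/

set_option autoImplicit false
set_option maxRecDepth 100000
set_option Elab.async false

namespace CfsgLib.Fi22E6

theorem cox_ok0 : coxOK 0 = true := by decide +kernel

theorem cox_ok1 : coxOK 1 = true := by decide +kernel

theorem cox_ok2 : coxOK 2 = true := by decide +kernel

theorem cox_ok3 : coxOK 3 = true := by decide +kernel

theorem cox_ok4 : coxOK 4 = true := by decide +kernel

theorem cox_ok5 : coxOK 5 = true := by decide +kernel

theorem cox_ok6 : coxOK 6 = true := by decide +kernel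

theorem cox_ok7 : coxOK 7 = true := by decide +kernel

theorem cox_ok8 : coxOK 8 = true := by decide +kernel

end CfsgLib.Fi22E6
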