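import Cfsg.Agent.Lib.Fi22E6.Rows
import Cfsg.Agent.Lib.Fi22E6.Data
import Cfsg.Agent.Lib.Fi22Pres.Main

/-!
The finite checks for Fi22 inside the twisted group of type E6.
-/

set_option autoImplicit false

namespace CfsgLib.Fi22E6

open Cfsg.Lie CfsgLib.Chev

/-- a Boolean for every number below a bound -/
noncomputable def allN (n : ℕ) (f : ℕ → Bool) : Bool :=
  Nat.rec (motive := fun _ => Bool) true (fun j r => f j && r) n

theorem allN_spec {n : ℕ} {f : ℕ → Bool} (h : allN n f = true) : ∀ j < n, f j = true := rec_all h

/-- a combination of the rational basis -/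
noncomputable def combP (v : ℕ) : List (ℕ × ℕ) :=
  (List.range 78).flatMap fun k => bif Nat.testBit v k then pCols.getD k [] else []

/-- equal packed combinations -/
noncomputable def sameL (L L' : List (ℕ × ℕ)) : Bool := okL L && (okL L' && Nat.beq (vecL L) (vecL L'))

/-- a letter acts on the rational basis by its matrix -/
noncomputable def letterOK (g : ℕ) : Bool :=
  shortT (letT.getD g oneT) && allN 78 fun k =>
    okW (letterW.getD g []) (pCols.getD k []) &&
      sameL (applyW (letterW.getD g []) (pCols.getD k [])) (combP (apT (letT.getD g oneT) (Nat.pow 2 k)))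

/-- the rational basis times the dual one -/
noncomputable def basisOK : Bool :=
  allN 78 fun j => (qCols.getD j []).all (fun p => Nat.blt p.1 78 && Nat.blt p.2 4 && okL (pCols.getD p.1 [])) &&
    sameL ((qCols.getD j []).flatMap fun p => (pCols.getD p.1 []).map fun q => (q.1, mul4 p.2 q.2)) [(j, 1)]

/-- a product of trees, multiplied on from the left -/
noncomputable def prodT : List BT → BT → BT
  | [], A => A
  | B :: w, A => prodT w (mulT A B)

/-- the same, evaluated -/
noncomputable def prodK : List BT → BT → (BT → Bool) → Bool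
  | [], A, k => k A
  | B :: w, A, k => mulK A B fun C => prodK w C k

theorem prodK_eq : ∀ (w : List BT) (A : BT) (k : BT → Bool), prodK w A k = k (prodT w A)
  | [], _, _ => rfl
  | B :: w, A, k => by rw [prodK, mulK_eq, prodK_eq w, prodT]

/-- a generator is its word in the letters -/
noncomputable def genOK (x : ℕ) : Bool :=
  shortT (genT.getD x oneT) && ((genW.getD x []).all (fun g => Nat.blt g 16) &&
    prodK ((genW.getD x []).map fun g => letT.getD g oneT) oneT fun C => eqT C (genT.getD x oneT))

/-- the trees of a word in the generators -/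
noncomputable def wordT (w : List ℕ) : List BT := w.map fun x => genT.getD x oneT

/-- a word in the generators acts trivially -/
noncomputable def relOK (w : List ℕ) : Bool :=
  w.all (fun x => Nat.blt x 9) && prodK (wordT w) oneT fun C => eqT C oneT

/-- the relators of the diagram -/
noncomputable def coxOK (x : ℕ) : Bool :=
  allN 9 fun y =>
    relOK ((List.replicate
      (Cfsg.Spor.coxLabel Cfsg.Spor.Fi22.edges (Fi22Pres.letters.getD x .a) (Fi22Pres.letters.getD y .a))
      [x, y]).flatten)

/-- the sum of the listed products -/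
noncomputable def sumAt : List (List ℕ) → ℕ → ℕ
  | [], _ => 0
  | w :: ws, v => Nat.xor (w.foldr (fun x u => apT (genT.getD x oneT) u) v) (sumAt ws v)

/-- the listed sum has a line as kernel -/
noncomputable def kerOK : Bool :=
  sumW.all (fun w => w.all fun x => Nat.blt 0 x && Nat.blt x 9) && (Nat.blt kerP 78 && (shortT sumT &&
    (shortT sumE && (Nat.blt kerV (Nat.pow 2 78) && (Nat.beq (apT sumT kerV) 0 && allN 78 fun j =>
      Nat.beq (apT sumT (Nat.pow 2 j)) (sumAt sumW (Nat.pow 2 j)) &&
        Nat.beq (apT sumE (apT sumT (Nat.pow 2 j)))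
          (Nat.xor (Nat.pow 2 j) (bif Nat.beq j kerP then kerV else 0)))))))

/-- the kernel vector spins to everything -/
noncomputable def spinOK : Bool :=
  Nat.beq (apT spinT 1) kerV && (shortT spinT && (shortT spinI &&
    ((mulK spinT spinI fun C => eqT C oneT) && allN 78 fun k =>
      Nat.beq k 0 || (Nat.blt (spinPar.getD k (0, 0)).1 k && (Nat.blt 0 (spinPar.getD k (0, 0)).2 &&
        (Nat.blt (spinPar.getD k (0, 0)).2 9 && Nat.beq (apT spinT (Nat.pow 2 k))
          (apT (genT.getD (spinPar.getD k (0, 0)).2 oneT)
            (apT spinT (Nat.pow 2 (spinPar.getD k (0, 0)).1)))))))))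

end CfsgLib.Fi22E6
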