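import Cfsg.Agent.Lib.Fi22E6.CheckDefs

/-!
The generators as words in the letters.
-/

set_option autoImplicit false
set_option maxRecDepth 100000
set_option Elab.async false

namespace CfsgLib.Fi22E6

theorem gen_ok0 : genOK 0 = true := by decide +kernel

theorem gen_ok1 : genOK 1 = true := by decide +kernel

theorem gen_ok2 : genOK 2 = true := by decide +kernel

theorem gen_ok3 : genOK 3 = true := by decide +kernel

theorem gen_ok4 : genOK 4 = true := by decide +kernel

theorem gen_ok5 : genOK 5 = true := by decide +kernel

theorem gen_ok6 : genOK 6 = true := by decide +kernel

theorem gen_ok7 : genOK 7 = true := by decide +kernel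

theorem gen_ok8 : genOK 8 = true := by decide +kernel

end CfsgLib.Fi22E6
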