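import Cfsg.Agent.Lib.Fi22E6.CheckDefs

/-!
The letters on the rational basis.
-/

set_option autoImplicit false
set_option maxRecDepth 100000
set_option Elab.async false

namespace CfsgLib.Fi22E6

theorem letter_ok0 : letterOK 0 = true := by decide +kernel

theorem letter_ok1 : letterOK 1 = true := by decide +kernel

theorem letter_ok2 : letterOK 2 = true := by decide +kernel

theorem letter_ok3 : letterOK 3 = true := by decide +kernel

theorem letter_ok4 : letterOK 4 = true := by decide +kernel

theorem letter_ok5 : letterOK 5 = true := by decide +kernel

theorem letter_ok6 : letterOK 6 = true := by decide +kernel

theorem letter_ok7 : letterOK 7 = true := by decide +kernel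

theorem letter_ok8 : letterOK 8 = true := by decide +kernel

theorem letter_ok9 : letterOK 9 = true := by decide +kernel

theorem letter_ok10 : letterOK 10 = true := by decide +kernel

theorem letter_ok11 : letterOK 11 = true := by decide +kernel

theorem letter_ok12 : letterOK 12 = true := by decide +kernel

theorem letter_ok13 : letterOK 13 = true := by decide +kernel

theorem letter_ok14 : letterOK 14 = true := by decide +kernel

theorem letter_ok15 : letterOK 15 = true := by decide +kernel

theorem basis_ok : basisOK = true := by decide +kernel

end CfsgLib.Fi22E6
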