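import Cfsg.Agent.Lib.Fi22E6.CheckDefs

/-!
A further relator.
-/

set_option autoImplicit false
set_option maxRecDepth 100000
set_option Elab.async false

namespace CfsgLib.Fi22E6

theorem extra_ok0 : relOK (Fi22Pres.extraW.getD 0 []) = true := by decide +kernel

end CfsgLib.Fi22E6
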