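import Cfsg.Agent.Lib.Fi22E6.CheckL
import Cfsg.Agent.Lib.Fi22E6.CheckG
import Cfsg.Agent.Lib.Fi22E6.CheckC
import Cfsg.Agent.Lib.Fi22E6.CheckX0
import Cfsg.Agent.Lib.Fi22E6.CheckX1
import Cfsg.Agent.Lib.Fi22E6.CheckX2
import Cfsg.Agent.Lib.Fi22E6.CheckS
import Cfsg.Prelude.Def_LieTwisted

/-!
The presented group Fi22 inside the twisted group of type E6 over the field with four elements, and
the centraliser of the eight generators of its subgroup `Ω₇(3)`.
-/

set_option autoImplicit false
set_option maxRecDepth 100000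

namespace CfsgLib.Fi22E6

open Cfsg.Lie CfsgLib.Chev CfsgLib.CosetEnum Cfsg.Spor Matrix

attribute [local irreducible] apT mulT oneT tabE6

variable {K : Type*} [Field K] [CharP K 2] {ω : K} (hω : ω * ω = ω + 1)

variable (ω) in
/-- the rational basis -/
def pMat : Matrix chevE6.Idx (Fin 78) K := fun i k => ofL ω Chev.enc (pCols.getD k.val []) i

variable (ω) in
/-- the dual basis -/
def qMat : Matrix (Fin 78) chevE6.Idx K := fun k i => ofL ω (fun l : Fin 78 => l.val) (qCols.getD (Chev.enc i) []) k

include hω in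
theorem pMat_qMat : pMat ω * qMat ω = (1 : Matrix chevE6.Idx chevE6.Idx K) := by
  ext i j
  have hj : Chev.enc j < 78 := (idxEquiv j).isLt
  have h := allN_spec basis_ok _ hj
  rw [Bool.and_eq_true, sameL, Bool.and_eq_true, Bool.and_eq_true] at h
  obtain ⟨hall, hF, hO, hv⟩ := h
  have hq : ∀ p ∈ qCols.getD (Chev.enc j) [], p.1 < 78 ∧ p.2 < 4 ∧ okL (pCols.getD p.1 []) = true := by
    intro p hp
    have := List.all_eq_true.1 hall p hp
    rw [Bool.and_eq_true, Bool.and_eq_true, Nat.blt_eq, Nat.blt_eq] at this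
    exact ⟨this.1.1, this.1.2, this.2⟩
  have e := ofL_eq (ω := ω) (Chev.enc (D := chevE6)) hF hO (Nat.eq_of_beq_eq_true hv) i
  rw [ofL_flatMap] at e
  rw [Matrix.mul_apply]
  calc ∑ k, pMat ω i k * qMat ω k j
      = ∑ k : Fin 78, ofL ω (fun l : Fin 78 => l.val) (qCols.getD (Chev.enc j) []) k *
          ofL ω Chev.enc (pCols.getD k.val []) i :=
        Finset.sum_congr rfl fun k _ => mul_comm _ _
    _ = ((qCols.getD (Chev.enc j) []).map fun p =>
          val ω p.2 * ofL ω Chev.enc (pCols.getD p.1 []) i).sum :=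
        sum_ofL (Equiv.refl _) (fun l : Fin 78 => l.val) (fun _ => rfl)
          (fun n => ofL ω Chev.enc (pCols.getD n []) i) _ fun p hp => (hq p hp).1
    _ = _ := by
        rw [show (1 : Matrix chevE6.Idx chevE6.Idx K) i j = ofL ω Chev.enc [(Chev.enc j, 1)] i by
          simp [ofL, val_one, Matrix.one_apply, Chev.enc_injective.eq_iff, eq_comm], ← e]
        refine congrArg List.sum (List.map_congr_left fun p hp => ?_)
        simp only [ofL, ← List.sum_map_mul_left, List.map_map]
        refine congrArg List.sum (List.map_congr_left fun q hq' => ?_)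
        simp only [Function.comp_apply, mul_ite, mul_zero]
        rw [val_mul hω (hq p hp).2.1 (okL_spec (hq p hp).2.2 q hq').2]

include hω in
theorem qMat_pMat : qMat ω * pMat ω = (1 : Matrix (Fin 78) (Fin 78) K) :=
  (Matrix.mul_eq_one_comm_of_equiv idxEquiv).1 (pMat_qMat hω)

variable (ω) in
/-- a unit acts on the rational basis by a coded matrix -/
def Acts (g : GL chevE6.Idx K) (A : BT) : Prop := g.val * pMat ω = pMat ω * toM K A

theorem acts_one : Acts ω (1 : GL chevE6.Idx K) oneT := by
  rw [Acts, Units.val_one, Matrix.one_mul, toM_one, Matrix.mul_one]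

theorem Acts.mul {g h : GL chevE6.Idx K} {A B : BT} (hg : Acts ω g A) (hh : Acts ω h B)
    (hB : shortT B = true) : Acts ω (g * h) (mulT A B) := by
  rw [Acts] at hg hh ⊢
  rw [Units.val_mul, Matrix.mul_assoc, hh, ← Matrix.mul_assoc, hg, Matrix.mul_assoc,
    toM_mul A (shortT_spec hB)]

include hω in
theorem Acts.eq_one {g : GL chevE6.Idx K} {A : BT} (hg : Acts ω g A) (h : eqT A oneT = true) : g = 1 := by
  rw [Acts, toM_eq h, toM_one, Matrix.mul_one] at hg
  refine Units.ext ?_
  calc g.val = g.val * (pMat ω * qMat ω) := by rw [pMat_qMat hω, Matrix.mul_one]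
    _ = 1 := by rw [← Matrix.mul_assoc, hg, pMat_qMat hω]

theorem acts_prod {α : Type*} {U : α → GL chevE6.Idx K} {T : α → BT} : ∀ (w : List α)
    {g : GL chevE6.Idx K} {A : BT}, Acts ω g A → (∀ x ∈ w, Acts ω (U x) (T x) ∧ shortT (T x) = true) →
    Acts ω (g * (w.map U).prod) (prodT (w.map T) A)
  | [], g, A, hg, _ => by simpa [prodT] using hg
  | x :: w, g, A, hg, h => by
    rw [List.map_cons, List.prod_cons, ← mul_assoc, List.map_cons, prodT]
    exact acts_prod w (hg.mul (h x List.mem_cons_self).1 (h x List.mem_cons_self).2)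
      fun y hy => h y (List.mem_cons_of_mem _ hy)

variable (ω) in
/-- a letter -/
noncomputable def letU (g : ℕ) : GL chevE6.Idx K := unitW ω (letterW.getD g [])

include hω in
theorem acts_letter {g : ℕ} (hg : g < 16) :
    Acts ω (letU ω g) (letT.getD g oneT) ∧ shortT (letT.getD g oneT) = true := by
  have h : letterOK g = true := by
    interval_cases g
    exacts [letter_ok0, letter_ok1, letter_ok2, letter_ok3, letter_ok4, letter_ok5, letter_ok6, letter_ok7,
      letter_ok8, letter_ok9, letter_ok10, letter_ok11, letter_ok12, letter_ok13, letter_ok14, letter_ok15]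
  rw [letterOK, Bool.and_eq_true] at h
  refine ⟨?_, h.1⟩
  funext i k
  have hk := allN_spec h.2 k.val k.isLt
  rw [Bool.and_eq_true, sameL, Bool.and_eq_true, Bool.and_eq_true] at hk
  obtain ⟨hw, hF, hC, hv⟩ := hk
  rw [Matrix.mul_apply, Matrix.mul_apply]
  show ∑ l, (letU ω g).val i l * ofL ω Chev.enc (pCols.getD k.val []) l = _
  rw [letU, (applyW_spec hω i _ _ hw).2]
  have hv' := Nat.eq_of_beq_eq_true hv
  rw [show Nat.pow 2 k.val = 2 ^ k.val from rfl] at hv' hC
  rw [ofL_eq _ hF hC hv', combP, ofL_flatMap,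
    ← List.sum_toFinset _ List.nodup_range, List.toFinset_range, Finset.sum_range]
  refine Finset.sum_congr rfl fun l _ => ?_
  show _ = pMat ω i l * bitK K (apT (letT.getD g oneT) (2 ^ k.val)) l.val
  simp only [bitK, pMat]
  cases (apT (letT.getD g oneT) (2 ^ k.val)).testBit l.val <;> simp [ofL]

variable (ω) in
/-- a generator -/
noncomputable def genU (x : ℕ) : GL chevE6.Idx K := ((genW.getD x []).map (letU ω)).prod

include hω in
theorem acts_gen {x : ℕ} (hx : x < 9) :
    Acts ω (genU ω x) (genT.getD x oneT) ∧ shortT (genT.getD x oneT) = true := by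
  have h : genOK x = true := by
    interval_cases x
    exacts [gen_ok0, gen_ok1, gen_ok2, gen_ok3, gen_ok4, gen_ok5, gen_ok6, gen_ok7, gen_ok8]
  rw [genOK, Bool.and_eq_true, Bool.and_eq_true, prodK_eq] at h
  obtain ⟨hs, hw, he⟩ := h
  refine ⟨?_, hs⟩
  have h1 := acts_prod (ω := ω) (U := letU ω) (T := fun g => letT.getD g oneT) (genW.getD x []) acts_one
    fun g hg => acts_letter hω (Nat.blt_eq.mp (List.all_eq_true.1 hw g hg))
  rw [one_mul] at h1
  rw [Acts] at h1 ⊢
  rw [genU, h1, toM_eq he]

include hω in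
theorem rel_prod {w : List ℕ} (h : relOK w = true) : prodW (genU ω) w = 1 := by
  rw [relOK, Bool.and_eq_true, prodK_eq] at h
  have h1 := acts_prod (ω := ω) (U := genU ω) (T := fun x => genT.getD x oneT) w acts_one
    fun x hx => acts_gen hω (Nat.blt_eq.mp (List.all_eq_true.1 h.1 x hx))
  rw [one_mul] at h1
  exact h1.eq_one hω h.2

variable (ω) in
/-- the image of a generator of the presentation -/
noncomputable def genImg (x : Fi22.Gen) : GL chevE6.Idx K := genU ω (Fi22Pres.letters.idxOf x)

include hω in
theorem genImg_pair (x y : Fi22.Gen) : (genImg ω x * genImg ω y) ^ coxLabel Fi22.edges x y = 1 := by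
  have hrep : ∀ (n : ℕ) (a b : ℕ), prodW (genU ω) ((List.replicate n [a, b]).flatten) = (genU ω a * genU ω b) ^ n := by
    intro n a b
    induction n with
    | zero => simp [prodW]
    | succ n ih =>
      rw [List.replicate_succ, List.flatten_cons, pow_succ', ← ih]
      simp [prodW, List.map_append, mul_assoc]
  have hi : ∀ z : Fi22.Gen, Fi22Pres.letters.idxOf z < 9 ∧
      Fi22Pres.letters.getD (Fi22Pres.letters.idxOf z) .a = z := by
    intro z; cases z <;> decide
  have h : ∀ a, a < 9 → coxOK a = true := by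
    intro a ha
    interval_cases a
    exacts [cox_ok0, cox_ok1, cox_ok2, cox_ok3, cox_ok4, cox_ok5, cox_ok6, cox_ok7, cox_ok8]
  have h2 := allN_spec (h _ (hi x).1) _ (hi y).1
  rw [(hi x).2, (hi y).2] at h2
  rw [genImg, genImg, ← hrep, rel_prod hω h2]

include hω in
theorem genImg_rel : ∀ r ∈ coxRelators Fi22.edges ∪ {r | r ∈ Fi22.extra},
    FreeGroup.lift (genImg ω) r = 1 := by
  rintro r (⟨x, -, y, -, rfl⟩ | hr)
  · rw [map_pow, map_mul, FreeGroup.lift_apply_of, FreeGroup.lift_apply_of]
    exact genImg_pair hω x y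
  · have hsq : ∀ x : Fi22.Gen, genImg ω x * genImg ω x = 1 := fun x => by
      have := genImg_pair hω x x
      rwa [coxLabel, if_pos rfl, pow_one] at this
    have key : ∀ w ∈ Fi22Pres.extraW, prodW (genOf Fi22Pres.letters (genImg ω)) w = 1 := by
      intro w hw
      have hlt : ∀ g < 9, genOf Fi22Pres.letters (genImg ω) g = genU ω g := by
        intro g hg
        rw [genOf_of_lt (show g < Fi22Pres.letters.length from hg), genImg]
        congr 1
        interval_cases g <;> rfl
      have hok : relOK w = true := by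
        simp only [Fi22Pres.extraW, List.mem_cons, List.not_mem_nil, or_false] at hw
        rcases hw with rfl | rfl | rfl
        exacts [extra_ok0, extra_ok1, extra_ok2]
      rw [← rel_prod hω hok]
      refine congrArg List.prod (List.map_congr_left fun g hg => hlt g ?_)
      rw [relOK, Bool.and_eq_true] at hok
      exact Nat.blt_eq.mp (List.all_eq_true.1 hok.1 g hg)
    have hex := Fi22Pres.extraWords
    unfold ExtraWords at hex
    let S : Set (FreeGroup Fi22.Gen) := {r | ∃ x, r = FreeGroup.of x * FreeGroup.of x}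
    let o : Fi22.Gen → PresentedGroup S := PresentedGroup.of
    have ho : ∀ x, o x * o x = 1 := fun x => by
      have h1 : PresentedGroup.mk S (FreeGroup.of x * FreeGroup.of x) = 1 :=
        PresentedGroup.one_of_mem ⟨x, rfl⟩
      rw [map_mul] at h1
      exact h1
    let φ : PresentedGroup S →* GL chevE6.Idx K := PresentedGroup.toGroup (f := genImg ω) (rels := S)
      (by rintro r' ⟨x, rfl⟩; rw [map_mul, FreeGroup.lift_apply_of]; exact hsq x)
    have hφ : ∀ x, φ (o x) = genImg ω x := fun x => PresentedGroup.toGroup.of _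
    obtain ⟨i, hi, rfl⟩ := List.getElem_of_mem hr
    have hi' : i < Fi22Pres.extraW.length := hex.length_eq ▸ hi
    have e := congrArg φ (hex.get hi hi' _ o ho)
    have e1 : φ (FreeGroup.lift o Fi22.extra[i]) = FreeGroup.lift (genImg ω) Fi22.extra[i] := by
      have : φ.comp (FreeGroup.lift o) = FreeGroup.lift (genImg ω) :=
        FreeGroup.ext_hom _ _ fun x => by simp [hφ]
      rw [← this]; rfl
    have e2 : φ (prodW (genOf Fi22Pres.letters o) Fi22Pres.extraW[i]) =
        prodW (genOf Fi22Pres.letters (genImg ω)) Fi22Pres.extraW[i] := by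
      rw [prodW, map_list_prod, List.map_map]
      refine congrArg List.prod (List.map_congr_left fun g _ => ?_)
      simp only [Function.comp_apply, genOf]
      split <;> simp [hφ]
    exact e1.symm.trans (e.trans (e2.trans (key _ (List.getElem_mem hi'))))

/-- the map of the presented group -/
noncomputable def embHom : Fi22 →* GL chevE6.Idx K := PresentedGroup.toGroup (genImg_rel hω)

theorem emb_gen {g : ℕ} (hg : g < 9) : embHom hω (Fi22Pres.gen g) = genU ω g := by
  rw [Fi22Pres.gen, presGen, genOf_of_lt (show g < Fi22Pres.letters.length from hg), embHom,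
    PresentedGroup.toGroup.of, genImg]
  congr 1
  interval_cases g <;> rfl

include hω in
theorem gen_ne_one : genU ω 0 ≠ (1 : GL chevE6.Idx K) := by
  intro h
  have h1 := (acts_gen hω (show 0 < 9 by norm_num)).1
  rw [Acts, h, Units.val_one, Matrix.one_mul] at h1
  have h2 : toM K (genT.getD 0 oneT) = 1 := by
    calc toM K (genT.getD 0 oneT) = qMat ω * pMat ω * toM K (genT.getD 0 oneT) := by
          rw [qMat_pMat hω, Matrix.one_mul]
      _ = 1 := by rw [Matrix.mul_assoc, ← h1, qMat_pMat hω]
  obtain ⟨i, j, hij⟩ : ∃ i j : Fin 78,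
      (apT (genT.getD 0 oneT) (2 ^ j.val)).testBit i.val ≠ decide (i = j) := by
    by_contra hc
    push Not at hc
    have : eqT (genT.getD 0 oneT) oneT = false := by decide +kernel
    refine absurd ?_ (Bool.eq_false_iff.1 this)
    have hs := shortT_spec (acts_gen (ω := ω) hω (show 0 < 9 by norm_num)).2
    have hall : ∀ j < 78, apT (genT.getD 0 oneT) (Nat.pow 2 j) = apT oneT (Nat.pow 2 j) := by
      intro j hj
      show apT _ (2 ^ j) = apT oneT (2 ^ j)
      have h1 : apT oneT (2 ^ j) = 2 ^ j := by
        unfold oneT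
        exact apT_build 7 _ (hj.trans (by norm_num))
      rw [h1]
      refine Nat.eq_of_testBit_eq fun i => ?_
      rw [Nat.testBit_two_pow]
      rcases lt_or_ge i 78 with hi | hi
      · rw [hc ⟨i, hi⟩ ⟨j, hj⟩]; simp [Fin.ext_iff, eq_comm]
      · rw [Nat.testBit_lt_two_pow ((hs j hj).trans_le (Nat.pow_le_pow_right (by norm_num) hi))]
        simp; omega
    unfold eqT
    generalize 78 = n at hall
    induction n with
    | zero => rfl
    | succ n ih =>
      show (Nat.beq _ _ && _) = true
      rw [Bool.and_eq_true]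
      exact ⟨by rw [hall n (by omega), Nat.beq_refl], ih fun j hj => hall j (by omega)⟩
  apply hij
  have := congrFun (congrFun h2 i) j
  simp only [toM, bitK, Matrix.one_apply] at this
  cases hb : (apT (genT.getD 0 oneT) (2 ^ j.val)).testBit i.val <;> rw [hb] at this <;>
    rcases eq_or_ne i j with e | e <;> simp_all

theorem emb_injective : Function.Injective (embHom hω) := by
  haveI : IsSimpleGroup Fi22 := Fi22Pres.isFi22.1
  refine (MonoidHom.ker_eq_bot_iff _).mp (((embHom hω).normal_ker.eq_bot_or_eq_top).resolve_right ?_)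
  intro h
  refine gen_ne_one hω ?_
  rw [← emb_gen hω (show 0 < 9 by norm_num)]
  exact MonoidHom.mem_ker.1 (h ▸ Subgroup.mem_top _)

end CfsgLib.Fi22E6
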