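import Cfsg.Agent.Lib.Fi22E6.Cent
import Cfsg.Agent.Lib.Chev.TwistE6TwoF4
import Cfsg.Prelude.Def_KGroupFacts

/-!
Conjugates under the diagonal automorphism of order three of a subgroup containing the eight
generators are not conjugate, when the outer automorphism group of the subgroup has order two.
-/

set_option autoImplicit false
set_option maxRecDepth 100000

namespace CfsgLib.Fi22E6

open Cfsg.Lie CfsgLib.Chev

theorem sq_inner {G H : Type*} [Group G] [Group H] (h : Nat.card (Cfsg.Out G) = 2) (φ : G ≃* H) (α : MulAut H) :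
    ∃ y : H, ∀ x, α (α x) = y * x * y⁻¹ := by
  let β : MulAut G := (φ.trans α).trans φ.symm
  have h2 : ((β : MulAut G) : Cfsg.Out G) ^ 2 = 1 := by rw [← h]; exact pow_card_eq_one'
  rw [← QuotientGroup.mk_pow, QuotientGroup.eq_one_iff] at h2
  obtain ⟨g, hg⟩ := h2
  refine ⟨φ g, fun x => ?_⟩
  have := congrArg (fun γ : MulAut G => φ (γ (φ.symm x))) hg
  simp only [pow_two, MulAut.mul_apply, MulAut.conj_apply, map_mul, map_inv, MulEquiv.apply_symm_apply] at this
  rw [this]
  simp [β]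

/-- isomorphic groups have isomorphic outer automorphism groups -/
noncomputable def outCongr {G H : Type*} [Group G] [Group H] (e : G ≃* H) : Cfsg.Out G ≃* Cfsg.Out H :=
  QuotientGroup.congr _ _ (MulAut.congr e) (by
    ext α
    constructor
    · rintro ⟨_, ⟨g, rfl⟩, rfl⟩
      exact ⟨e g, by ext x; simp⟩
    · rintro ⟨g, rfl⟩
      exact ⟨_, ⟨e.symm g, rfl⟩, by ext x; simp⟩)

theorem gen_mem_subH {x : ℕ} (h0 : 0 < x) (h9 : x < 9) : Fi22Pres.gen x ∈ Fi22Pres.subH :=
  Subgroup.subset_closure ⟨x - 1, by omega, by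
    rw [CosetEnum.blockGen, if_pos (by omega)]; congr 1; omega⟩

variable {K : Type*} [Field K] [Fintype K] [CharP K 2] {ω : K}

theorem not_conj (hω : ω * ω = ω + 1) (hK : Nat.card K = 4) (H₀ : Subgroup (GL chevE6.Idx K))
    (hle : H₀ ≤ twistedE6 K 2) (hgen : ∀ x, 0 < x → x < 9 → genU ω x ∈ H₀)
    (hout : ∀ α : MulAut H₀, ∃ y : H₀, ∀ x, α (α x) = y * x * y⁻¹) {a b : Kˣ}
    {g : GL chevE6.Idx K} (hg : g ∈ twistedE6 K 2)
    (h : H₀.map (MulAut.conj (g * F4Classes.dlt a)).toMonoidHom =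
      H₀.map (MulAut.conj (F4Classes.dlt b)).toMonoidHom) : a = b := by
  set k := b⁻¹ * a with hk
  set g' := F4Classes.dlt b⁻¹ * g * F4Classes.dlt b with hg'
  have hg'G : g' ∈ twistedE6 K 2 := by
    have := F4Classes.dlt_conj_mem hK b⁻¹ hg
    rwa [F4Classes.dlt_inv, inv_inv] at this
  set m := g' * F4Classes.dlt k with hm
  have e2 : m = (F4Classes.dlt b)⁻¹ * (g * F4Classes.dlt a) := by
    rw [hm, hg', hk, mul_assoc, F4Classes.dlt_mul, F4Classes.dlt_inv, mul_inv_cancel_left, mul_assoc]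
  have hmap : H₀.map (MulAut.conj m).toMonoidHom = H₀ := by
    have hc : (MulAut.conj m).toMonoidHom = (MulAut.conj (F4Classes.dlt b)⁻¹).toMonoidHom.comp
        (MulAut.conj (g * F4Classes.dlt a)).toMonoidHom := by
      rw [e2]; ext x; simp [mul_assoc]
    rw [hc, ← Subgroup.map_map, h, Subgroup.map_map]
    convert H₀.map_id
    ext x; simp [mul_assoc]
  let α : MulAut H₀ := (H₀.equivMapOfInjective (MulAut.conj m).toMonoidHom (MulAut.conj m).injective).trans
    (MulEquiv.subgroupCongr hmap)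
  have hα : ∀ x : H₀, (α x : GL chevE6.Idx K) = m * x * m⁻¹ := fun x => rfl
  obtain ⟨y, hy⟩ := hout α
  set z := (y : GL chevE6.Idx K)⁻¹ * m * m with hz
  have hzc : ∀ x ∈ H₀, Commute z x := by
    intro x hx
    have h1 := congrArg Subtype.val (hy ⟨x, hx⟩)
    simp only [hα, Subgroup.coe_mul, Subgroup.coe_inv] at h1
    show z * x = x * z
    calc z * x = (y : GL chevE6.Idx K)⁻¹ * (m * (m * x * m⁻¹) * m⁻¹) * m * m := by rw [hz]; group
      _ = x * z := by rw [h1, hz]; group
  have hw : (y : GL chevE6.Idx K)⁻¹ * g' * (F4Classes.dlt k * g' * (F4Classes.dlt k)⁻¹) ∈ twistedE6 K 2 :=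
    mul_mem (mul_mem (inv_mem (hle y.2)) hg'G) (F4Classes.dlt_conj_mem hK k hg'G)
  have hzf : z = (y : GL chevE6.Idx K)⁻¹ * g' * (F4Classes.dlt k * g' * (F4Classes.dlt k)⁻¹) *
      F4Classes.dlt (k * k) := by
    rw [hz, hm, ← F4Classes.dlt_mul k k]
    generalize F4Classes.dlt k = d
    group
  have hG : twistedE6 K 2 ≤ chevE6.group K := by
    refine certE6.genSubgroup_le ?_
    rintro w (⟨t, ht, r, hr, rfl⟩ | ⟨t, rs, hrs, rfl⟩)
    · have hlt : r < tabE6.n := by
        revert hr; revert r; decide +kernel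
      simpa using certE6.X_mem_group hlt t
    · have hlt : rs.1 < tabE6.n ∧ rs.2 < tabE6.n := by
        revert hrs; revert rs; decide +kernel
      rw [chevE6_prod_pair]
      exact mul_mem (certE6.X_mem_group hlt.1 _) (certE6.X_mem_group hlt.2 _)
  let j := algebraMap K (AlgebraicClosure K)
  haveI : CharP (AlgebraicClosure K) 2 := (RingHom.charP_iff_charP j 2).1 inferInstance
  obtain ⟨ζ, hζ⟩ := IsAlgClosed.exists_pow_nat_eq (j ((k * k : Kˣ) : K)) (show 0 < 3 by norm_num)
  have hzL : mapGL chevE6 j z = 1 := by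
    have hmem : mapGL chevE6 j z ∈ chevE6.group (AlgebraicClosure K) := by
      rw [hzf, map_mul]
      exact mul_mem (certE6.map_mem_group j (hG hw))
        (certE6.diagonal_le_group (F4Classes.dlt_mem_diagonal j (k * k) hζ))
    obtain ⟨c, hc⟩ := scalar_of_commute (ω := j ω) (by rw [← map_mul, hω, map_add, map_one])
      (z := mapGL chevE6 j z) fun x h0 h9 => by
        rw [← genU_map j x]
        exact (hzc _ (hgen x h0 h9)).map _
    refine F4Classes.eq_one_of_commute (ZMod.castHom dvd_rfl _) hmem fun x _ => ?_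
    refine Units.ext ?_
    rw [Units.val_mul, Units.val_mul, hc, Matrix.smul_mul, Matrix.mul_smul, Matrix.one_mul, Matrix.mul_one]
  have hz1 : z = 1 := mapGL_injective chevE6 j (hzL.trans (map_one _).symm)
  have hkk : k * k = 1 := by
    refine F4Classes.dlt_mem_group hK _ ?_
    rw [hzf, mul_eq_one_iff_eq_inv] at hz1
    rw [← inv_inv (F4Classes.dlt (k * k)), ← hz1]
    exact inv_mem (hG hw)
  have hk1 : k = 1 := by
    have := F4Classes.cube_units hK k
    rwa [pow_succ, pow_two, hkk, one_mul] at this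
  exact (inv_mul_eq_one.1 (hk ▸ hk1)).symm

theorem exists_omega (hK : Nat.card K = 4) : ∃ ω : K, ω * ω = ω + 1 := by
  have : Fact (Nat.card Kˣ = 3) := ⟨by rw [Nat.card_units, hK]⟩
  have hu : Nat.card Kˣ = 3 := Fact.out
  obtain ⟨u, hu1⟩ : ∃ u : Kˣ, u ≠ 1 := by
    by_contra hc
    push Not at hc
    haveI : Subsingleton Kˣ := ⟨fun a b => (hc a).trans (hc b).symm⟩
    rw [Nat.card_of_subsingleton (1 : Kˣ)] at hu
    norm_num at hu
  refine ⟨u, ?_⟩
  have h3 : (u : K) ^ 3 = 1 := by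
    rw [← Units.val_pow_eq_pow_val, F4Classes.cube_units hK u, Units.val_one]
  have hne : (u : K) - 1 ≠ 0 := sub_ne_zero.2 fun e => hu1 (Units.ext e)
  have h : ((u : K) - 1) * ((u : K) * u + u + 1) = 0 := by linear_combination h3
  have h' := (mul_eq_zero.1 h).resolve_left hne
  rw [add_assoc] at h'
  exact CharTwo.add_eq_zero.mp h'

/-- Three pairwise non-conjugate copies of a subgroup of Fi22 containing the eight generators. -/
theorem three_classes {K : Type*} [Field K] [Fintype K] (hK : Fintype.card K = 4)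
    (S : Subgroup Cfsg.Spor.Fi22) (hS : ∀ x, 0 < x → x < 9 → Fi22Pres.gen x ∈ S)
    (hout : Nat.card (Cfsg.Out S) = 2) :
    ∃ H : Fin 3 → Subgroup (twistedE6 K 2), (∀ i, Nonempty (H i ≃* S)) ∧
      ∀ i j, i ≠ j → ∀ g : twistedE6 K 2, (H i).map (MulAut.conj g).toMonoidHom ≠ H j := by
  have hK' : Nat.card K = 4 := by rw [Nat.card_eq_fintype_card, hK]
  have : CharP K 2 := charP_of_card_eq_prime_pow (f := 2) (by rw [hK]; rfl)
  obtain ⟨ω, hω⟩ := exists_omega hK'
  set H₀ := S.map (embHom hω) with hH₀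
  have hle : H₀ ≤ twistedE6 K 2 := (Subgroup.map_le_range _ _).trans (range_le hω)
  let φ : S ≃* H₀ := S.equivMapOfInjective _ (emb_injective hω)
  have hgen : ∀ x, 0 < x → x < 9 → genU ω x ∈ H₀ := fun x h0 h9 =>
    ⟨_, hS x h0 h9, emb_gen hω h9⟩
  have : Fact (Nat.card Kˣ = 3) := ⟨by rw [Nat.card_units, hK']⟩
  have hcard : Nat.card Kˣ = 3 := Fact.out
  let ψ : Fin 3 ≃ Kˣ := (Finite.equivFinOfCardEq hcard).symm
  let c : Fin 3 → (GL chevE6.Idx K →* GL chevE6.Idx K) := fun i => (MulAut.conj (F4Classes.dlt (ψ i))).toMonoidHom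
  have hlei : ∀ i, H₀.map (c i) ≤ twistedE6 K 2 := by
    rintro i _ ⟨x, hx, rfl⟩
    exact F4Classes.dlt_conj_mem hK' (ψ i) (hle hx)
  refine ⟨fun i => (H₀.map (c i)).subgroupOf _, fun i => ?_, fun i j hij g hg => hij (ψ.injective ?_)⟩
  · exact ⟨((Subgroup.subgroupOfEquivOfLe (hlei i)).trans
      (Subgroup.equivMapOfInjective H₀ (c i) (MulAut.conj _).injective).symm).trans φ.symm⟩
  · refine not_conj hω hK' H₀ hle hgen (sq_inner hout φ) g.2 ?_
    have h1 := congrArg (Subgroup.map (twistedE6 K 2).subtype) hg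
    rw [Subgroup.map_map, Subgroup.map_subgroupOf_eq_of_le (hlei j),
      show (twistedE6 K 2).subtype.comp (MulAut.conj g).toMonoidHom =
        (MulAut.conj (g : GL chevE6.Idx K)).toMonoidHom.comp (twistedE6 K 2).subtype by ext x; rfl,
      ← Subgroup.map_map, Subgroup.map_subgroupOf_eq_of_le (hlei i), Subgroup.map_map] at h1
    rw [← h1]
    congr 1
    ext x
    simp [c, mul_assoc]

end CfsgLib.Fi22E6
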