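import Cfsg.Agent.Lib.Chev.All
import Cfsg.Agent.Lib.Chev.Root
import Cfsg.Agent.Lib.Fi22E6.Bits

/-!
Coded vectors over the field with four elements and root elements of type E6 acting on them.
-/

set_option autoImplicit false
set_option maxRecDepth 100000

namespace CfsgLib.Fi22E6

open Cfsg.Lie CfsgLib.Chev

/-- multiplication of codes -/
noncomputable def mul4 (a b : ℕ) : ℕ :=
  Nat.land (Nat.shiftRight 0x9c78e400 (Nat.mul 2 (Nat.add (Nat.mul 4 a) b))) 3

/-- powers of codes -/
noncomputable def pow4 (t d : ℕ) : ℕ := Nat.rec (motive := fun _ => ℕ) 1 (fun _ r => mul4 t r) d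

/-- coefficient of a monomial -/
noncomputable def coef4 (c : ℤ) (d t : ℕ) : ℕ := bif Nat.beq (Nat.mod c.natAbs 2) 0 then 0 else pow4 t d

/-- a combination after a root element -/
noncomputable def applyX (r t : ℕ) (L : List (ℕ × ℕ)) : List (ℕ × ℕ) :=
  L.flatMap fun p => (tabE6.col r p.1).map fun q => (q.1, mul4 (coef4 q.2.2 q.2.1 t) p.2)

/-- a combination after a word -/
noncomputable def applyW : List (ℕ × ℕ) → List (ℕ × ℕ) → List (ℕ × ℕ)
  | [], L => L
  | p :: w, L => applyX p.1 p.2 (applyW w L)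

/-- positions and codes are in range -/
noncomputable def okL (L : List (ℕ × ℕ)) : Bool := L.all fun p => Nat.blt p.1 78 && Nat.blt p.2 4

/-- a word and its intermediate combinations are in range -/
noncomputable def okW : List (ℕ × ℕ) → List (ℕ × ℕ) → Bool
  | [], L => okL L
  | p :: w, L => Nat.blt p.1 72 && (Nat.blt p.2 4 && (okW w L && okL (applyX p.1 p.2 (applyW w L))))

/-- a combination as a packed number -/
noncomputable def vecL (L : List (ℕ × ℕ)) : ℕ :=
  L.foldr (fun p a => Nat.xor (Nat.shiftLeft p.2 (Nat.mul 2 p.1)) a) 0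

theorem mul4_lt (a b : ℕ) : mul4 a b < 4 := Nat.lt_succ_of_le Nat.and_le_right

section Field

variable {K : Type*} [Field K] (ω : K)

/-- the element of a code -/
def val (n : ℕ) : K := bitK K n 0 + bitK K n 1 * ω

theorem val_zero : val ω 0 = 0 := by simp [val, bitK]

theorem val_one : val ω 1 = 1 := by
  simp [val, bitK, show Nat.testBit 1 1 = false from rfl]

theorem val_two : val ω 2 = ω := by
  simp [val, bitK, show Nat.testBit 2 1 = true from rfl, show Nat.testBit 2 0 = false from rfl]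

theorem val_three : val ω 3 = 1 + ω := by
  simp [val, bitK, show Nat.testBit 3 1 = true from rfl, show Nat.testBit 3 0 = true from rfl]

/-- the vector of a combination -/
def ofL {ι : Type*} (e : ι → ℕ) (L : List (ℕ × ℕ)) (i : ι) : K :=
  (L.map fun p => if p.1 = e i then val ω p.2 else 0).sum

variable [CharP K 2]

theorem val_xor (a b : ℕ) : val ω (a ^^^ b) = val ω a + val ω b := by
  rw [val, bitK_xor, bitK_xor, val, val]; ring

variable {ω} (hω : ω * ω = ω + 1)

include hω in
theorem val_mul {a b : ℕ} (ha : a < 4) (hb : b < 4) : val ω (mul4 a b) = val ω a * val ω b := by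
  have h2 : (2 : K) = 0 := CharTwo.two_eq_zero
  interval_cases a <;> interval_cases b
  all_goals simp only [show mul4 0 0 = 0 from rfl, show mul4 0 1 = 0 from rfl, show mul4 0 2 = 0 from rfl,
          show mul4 0 3 = 0 from rfl, show mul4 1 0 = 0 from rfl, show mul4 1 1 = 1 from rfl,
          show mul4 1 2 = 2 from rfl, show mul4 1 3 = 3 from rfl, show mul4 2 0 = 0 from rfl,
          show mul4 2 1 = 2 from rfl, show mul4 2 2 = 3 from rfl, show mul4 2 3 = 1 from rfl,
          show mul4 3 0 = 0 from rfl, show mul4 3 1 = 3 from rfl, show mul4 3 2 = 1 from rfl,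
          show mul4 3 3 = 2 from rfl, val_zero, val_one, val_two, val_three]
  all_goals first | ring1 | linear_combination -hω - h2 * ω | linear_combination -hω - h2 * ω - h2 | linear_combination -hω | linear_combination -hω - h2

include hω in
theorem val_pow {t : ℕ} (ht : t < 4) : ∀ d : ℕ, pow4 t d < 4 ∧ val ω (pow4 t d) = val ω t ^ d
  | 0 => ⟨by show 1 < 4; norm_num, by rw [pow_zero]; exact val_one ω⟩
  | d + 1 => by
    obtain ⟨h1, h2⟩ := val_pow ht d
    refine ⟨mul4_lt _ _, ?_⟩
    show val ω (mul4 t (pow4 t d)) = _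
    rw [val_mul hω ht h1, h2, pow_succ']

theorem coef4_lt (c : ℤ) {t : ℕ} (d : ℕ) (ht : t < 4) : coef4 c d t < 4 := by
  unfold coef4
  cases Nat.beq (Nat.mod c.natAbs 2) 0
  · rw [cond_false]
    cases d with
    | zero => show 1 < 4; norm_num
    | succ d => exact mul4_lt _ _
  · rw [cond_true]; norm_num

include hω in
theorem val_coef (c : ℤ) (d : ℕ) {t : ℕ} (ht : t < 4) :
    val ω (coef4 c d t) = (c : K) * val ω t ^ d := by
  have hc : (c : K) = ((c.natAbs % 2 : ℕ) : K) := by
    rw [← CharP.cast_eq_mod K 2]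
    rcases Int.natAbs_eq c with e | e <;> conv_lhs => rw [e]
    · simp
    · simp [CharTwo.neg_eq]
  rw [hc, coef4]
  rcases Nat.mod_two_eq_zero_or_one c.natAbs with h | h
  · rw [show Nat.mod c.natAbs 2 = 0 from h, h]
    simp [val, bitK]
  · rw [show Nat.mod c.natAbs 2 = 1 from h, h, show Nat.beq 1 0 = false from rfl, cond_false,
      (val_pow hω ht d).2, Nat.cast_one, one_mul]

omit [CharP K 2] in
theorem ofL_flatMap {ι : Type*} (e : ι → ℕ) {α : Type*} (g : α → List (ℕ × ℕ)) (i : ι) :
    ∀ L : List α, ofL ω e (L.flatMap g) i = (L.map fun p => ofL ω e (g p) i).sum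
  | [] => by simp [ofL]
  | p :: L => by
    rw [List.map_cons, List.sum_cons, ← ofL_flatMap e g i L, List.flatMap_cons]
    simp [ofL]

omit [CharP K 2] in
theorem sum_ofL {ι : Type*} [Fintype ι] (e : ι ≃ Fin 78) (n : ι → ℕ) (hn : ∀ k, n k = (e k).val)
    (g : ℕ → K) : ∀ L : List (ℕ × ℕ), (∀ p ∈ L, p.1 < 78) →
    ∑ k, ofL ω n L k * g (n k) = (L.map fun p => val ω p.2 * g p.1).sum
  | [], _ => by simp [ofL]
  | p :: L, h => by
    have hp := h p List.mem_cons_self
    rw [List.map_cons, List.sum_cons, ← sum_ofL e n hn g L fun q hq => h q (List.mem_cons_of_mem _ hq)]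
    simp only [ofL, List.map_cons, List.sum_cons, add_mul, Finset.sum_add_distrib]
    refine congrArg (· + _) ?_
    rw [Finset.sum_eq_single (e.symm ⟨p.1, hp⟩)]
    · have h0 : n (e.symm ⟨p.1, hp⟩) = p.1 := by rw [hn, Equiv.apply_symm_apply]
      rw [h0, if_pos rfl]
    · intro k _ hk
      rw [if_neg, zero_mul]
      intro h'
      exact hk (e.eq_symm_apply.2 (Fin.ext ((hn k).symm.trans h'.symm)))
    · simp

theorem okL_spec {L : List (ℕ × ℕ)} (h : okL L = true) : ∀ p ∈ L, p.1 < 78 ∧ p.2 < 4 := fun p hp => by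
  have := List.all_eq_true.1 h p hp
  rwa [Bool.and_eq_true, Nat.blt_eq, Nat.blt_eq] at this

theorem vecL_val (n : ℕ) : ∀ L : List (ℕ × ℕ), (∀ p ∈ L, p.2 < 4) →
    val ω ((vecL L >>> (2 * n)) % 4) = (L.map fun p => if p.1 = n then val ω p.2 else 0).sum
  | [], _ => by simp [vecL, val_zero]
  | p :: L, h => by
    rw [List.map_cons, List.sum_cons, ← vecL_val n L fun q hq => h q (List.mem_cons_of_mem _ hq)]
    show val ω (((p.2 <<< (2 * p.1)) ^^^ vecL L) >>> (2 * n) % 4) = _
    rw [Nat.shiftRight_xor_distrib, show (4 : ℕ) = 2 ^ 2 from rfl, Nat.xor_mod_two_pow, val_xor]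
    refine congrArg (· + _) ?_
    have hp := h p List.mem_cons_self
    rcases lt_trichotomy p.1 n with hlt | rfl | hgt
    · rw [if_neg hlt.ne, Nat.shiftLeft_eq, Nat.shiftRight_eq_div_pow, Nat.div_eq_of_lt, Nat.zero_mod, val_zero]
      calc p.2 * 2 ^ (2 * p.1) < 4 * 2 ^ (2 * p.1) := by
            exact Nat.mul_lt_mul_of_pos_right hp (by positivity)
        _ = 2 ^ (2 * p.1 + 2) := by ring
        _ ≤ 2 ^ (2 * n) := Nat.pow_le_pow_right (by norm_num) (by omega)
    · rw [if_pos rfl, Nat.shiftLeft_shiftRight, Nat.mod_eq_of_lt hp]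
    · rw [if_neg hgt.ne']
      obtain ⟨m, hm⟩ : ∃ m, 2 * p.1 = 2 * n + (2 + m) := ⟨2 * p.1 - 2 * n - 2, by omega⟩
      rw [Nat.shiftLeft_eq, hm, pow_add, Nat.shiftRight_eq_div_pow,
        show p.2 * (2 ^ (2 * n) * 2 ^ (2 + m)) = 2 ^ (2 * n) * (p.2 * 2 ^ (2 + m)) by ring,
        Nat.mul_div_cancel_left _ (by positivity), pow_add, ← mul_assoc, mul_comm p.2, mul_assoc,
        Nat.mul_mod_right, val_zero]

theorem ofL_eq {ι : Type*} (e : ι → ℕ) {L L' : List (ℕ × ℕ)} (hL : okL L = true) (hL' : okL L' = true)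
    (h : vecL L = vecL L') (i : ι) : ofL ω e L i = ofL ω e L' i := by
  rw [ofL, ofL, ← vecL_val (e i) L fun p hp => (okL_spec hL p hp).2,
    ← vecL_val (e i) L' fun p hp => (okL_spec hL' p hp).2, h]

/-- the coordinates numbered by the engine -/
noncomputable def idxEquiv : chevE6.Idx ≃ Fin 78 :=
  Equiv.ofBijective (fun i => ⟨Chev.enc i, Chev.enc_lt certE6.agrees i⟩)
    ((Fintype.bijective_iff_injective_and_card _).2
      ⟨fun i j h => Chev.enc_injective (congrArg Fin.val h), by
        rw [Fintype.card_sum, Fintype.card_fin, Fintype.card_fin, Fintype.card_fin]; rfl⟩)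

theorem idxEquiv_val (i : chevE6.Idx) : (idxEquiv i).val = Chev.enc i := rfl

/-- the product of root elements of a word -/
noncomputable def unitW (ω : K) (w : List (ℕ × ℕ)) : GL chevE6.Idx K :=
  (w.map fun p => X chevE6 p.1 (val ω p.2)).prod

include hω in
theorem applyX_spec {r t : ℕ} (hr : r < 72) (ht : t < 4) {L : List (ℕ × ℕ)} (hL : okL L = true)
    (i : chevE6.Idx) :
    ∑ k, chevE6.x K r (val ω t) i k * ofL ω Chev.enc L k = ofL ω Chev.enc (applyX r t L) i := by
  have hr' : r < tabE6.n := hr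
  rw [applyX, ofL_flatMap]
  let g : ℕ → K := fun n =>
    ((tabE6.col r n).map fun q => if q.1 = Chev.enc i then (q.2.2 : K) * val ω t ^ q.2.1 else 0).sum
  have e : ∀ k, chevE6.x K r (val ω t) i k * ofL ω Chev.enc L k = ofL ω Chev.enc L k * g (Chev.enc k) :=
    fun k => by rw [mul_comm, x_apply certE6.agrees hr']
  rw [Finset.sum_congr rfl fun k _ => e k,
    sum_ofL idxEquiv (fun k => Chev.enc k) (fun k => (idxEquiv_val k).symm) g L fun p hp => (okL_spec hL p hp).1]
  refine congrArg List.sum (List.map_congr_left fun p hp => ?_)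
  show _ = ofL ω Chev.enc _ i
  simp only [g, ofL, ← List.sum_map_mul_left, List.map_map]
  refine congrArg List.sum (List.map_congr_left fun q _ => ?_)
  simp only [Function.comp_apply, mul_ite, mul_zero]
  split_ifs
  · rw [val_mul hω (coef4_lt _ _ ht) (okL_spec hL p hp).2, val_coef hω _ _ ht]; ring
  · rfl

include hω in
theorem applyW_spec (i : chevE6.Idx) : ∀ (w L : List (ℕ × ℕ)), okW w L = true →
    okL (applyW w L) = true ∧
      ∑ k, (unitW ω w).val i k * ofL ω Chev.enc L k = ofL ω Chev.enc (applyW w L) i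
  | [], L, h => ⟨h, by simp [unitW, applyW, Matrix.one_apply]⟩
  | p :: w, L, h => by
    simp only [okW, Bool.and_eq_true, Nat.blt_eq] at h
    obtain ⟨hr, ht, hw, hok⟩ := h
    refine ⟨hok, ?_⟩
    have hk : ∀ k, ∑ l, (unitW ω w).val k l * ofL ω Chev.enc L l = ofL ω Chev.enc (applyW w L) k :=
      fun k => (applyW_spec k w L hw).2
    rw [applyW, ← applyX_spec hω hr ht (applyW_spec i w L hw).1 i]
    simp only [unitW, List.map_cons, List.prod_cons, Units.val_mul, certE6.coe_X, Matrix.mul_apply,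
      Finset.sum_mul]
    rw [Finset.sum_comm]
    refine Finset.sum_congr rfl fun k _ => ?_
    rw [← hk k, Finset.mul_sum]
    exact Finset.sum_congr rfl fun l _ => by rw [mul_assoc]; rfl

end Field

end CfsgLib.Fi22E6
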